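import Groth.Agent.Lib.Glue.IdealTorsion
import Mathlib.LinearAlgebra.TensorProduct.Pi
import Mathlib.RingTheory.Finiteness.Nilpotent
import Mathlib.Algebra.Module.LocalizedModule.Basic

/-!
# Extending maps along torsion cokernels, and lifting extensions by torsion modules
-/

universe u

open TensorProduct

namespace Groth.Agent.GlueExt4

variable {R : Type u} [CommRing R]

/-- The `I`-power torsion submodule. -/
def torsPow (I : Ideal R) (Q : Type u) [AddCommGroup Q] [Module R Q] : Submodule R Q where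
  carrier := {m | ∃ n : ℕ, ∀ a ∈ I ^ n, a • m = 0}
  add_mem' := by
    rintro x y ⟨n, hn⟩ ⟨k, hk⟩
    refine ⟨max n k, fun a ha => ?_⟩
    rw [smul_add, hn a (Ideal.pow_le_pow_right (le_max_left n k) ha),
      hk a (Ideal.pow_le_pow_right (le_max_right n k) ha), add_zero]
  zero_mem' := ⟨0, fun a _ => smul_zero a⟩
  smul_mem' := by
    rintro c x ⟨n, hn⟩
    exact ⟨n, fun a ha => by rw [smul_comm, hn a ha, smul_zero]⟩

theorem mem_torsPow_iff {I : Ideal R} {Q : Type u} [AddCommGroup Q] [Module R Q] {m : Q} :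
    m ∈ torsPow I Q ↔ ∃ n : ℕ, ∀ a ∈ I ^ n, a • m = 0 := Iff.rfl

theorem mem_torsPow_of_gens {I : Ideal R} {s : Finset R} (hs : Ideal.span (s : Set R) = I)
    {Q : Type u} [AddCommGroup Q] [Module R Q] {m : Q} (h : ∀ f ∈ s, ∃ k : ℕ, f ^ k • m = 0) :
    m ∈ torsPow I Q := by
  have hle : I ≤ Ideal.radical (LinearMap.ker (LinearMap.toSpanSingleton R Q m) : Ideal R) := by
    rw [← hs, Ideal.span_le]
    intro f hf
    obtain ⟨k, hk⟩ := h f hf
    exact ⟨k, by simpa using hk⟩
  obtain ⟨n, hn⟩ := Ideal.exists_pow_le_of_le_radical_of_fg hle ⟨s, hs⟩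
  exact ⟨n, fun a ha => by simpa using hn ha⟩

variable (S : Type u) [CommRing S] [Algebra R S] [Module.Flat R S]

/-- Torsion elements of `S ⊗ Q` come from the torsion of `Q`. -/
theorem exists_lTensor_torsPow {I : Ideal R} (hI : I.FG) {Q : Type u} [AddCommGroup Q] [Module R Q]
    (x : S ⊗[R] Q) {n : ℕ} (hx : ∀ a ∈ I ^ n, a • x = 0) :
    ∃ w : S ⊗[R] torsPow I Q, (torsPow I Q).subtype.lTensor S w = x := by
  classical
  obtain ⟨s, hs⟩ : (I ^ n).FG := Ideal.FG.pow hI
  let g : Q →ₗ[R] (↥s → Q) := LinearMap.pi fun a => (a : R) • LinearMap.id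
  have hle : LinearMap.ker g ≤ torsPow I Q := by
    intro m hm
    refine ⟨n, fun a ha => ?_⟩
    have : Ideal.span (s : Set R) ≤ LinearMap.ker (LinearMap.toSpanSingleton R Q m) := by
      rw [Ideal.span_le]
      intro b hb
      have := congrFun (LinearMap.mem_ker.mp hm) ⟨b, hb⟩
      simpa [g] using this
    have ha' : a ∈ Ideal.span (s : Set R) := by
      rw [show Ideal.span (s : Set R) = I ^ n from hs]; exact ha
    simpa using this ha'
  have hzero : g.lTensor S x = 0 := by
    apply (TensorProduct.piRight R R S (fun _ : ↥s => Q)).injective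
    rw [map_zero]
    funext a
    have hgen : ∀ y : S ⊗[R] Q,
        TensorProduct.piRight R R S (fun _ : ↥s => Q) (g.lTensor S y) a = (a : R) • y := by
      intro y
      induction y with
      | zero => simp
      | tmul c q => simp [g, TensorProduct.tmul_smul]
      | add y z hy hz => rw [map_add, map_add, Pi.add_apply, hy, hz, smul_add]
    rw [hgen, Pi.zero_apply]
    exact hx _ (by rw [← hs]; exact Ideal.subset_span a.2)
  obtain ⟨w, hw⟩ := (Module.Flat.lTensor_exact S (LinearMap.exact_subtype_ker_map g) x).mp hzero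
  exact ⟨(Submodule.inclusion hle).lTensor S w, by
    rw [← LinearMap.comp_apply, ← LinearMap.lTensor_comp, Submodule.subtype_comp_inclusion, hw]⟩

omit [Module.Flat R S] in
/-- `f` acts bijectively on the base change of a module localised at `f`. -/
theorem isUnit_tensor_localized (f : R) {N : Type u} [AddCommGroup N] [Module R N]
    (x : Submonoid.powers f) :
    IsUnit (algebraMap R (Module.End R (S ⊗[R] LocalizedModule (Submonoid.powers f) N)) x) := by
  have h := IsLocalizedModule.map_units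
    (LocalizedModule.mkLinearMap (Submonoid.powers f) N) x
  rw [Module.End.isUnit_iff] at h ⊢
  have heq : algebraMap R (Module.End R (S ⊗[R] LocalizedModule (Submonoid.powers f) N)) x =
      (algebraMap R (Module.End R (LocalizedModule (Submonoid.powers f) N)) x).lTensor S := by
    ext c q
    simp [TensorProduct.tmul_smul]
  rw [heq]
  exact (LinearEquiv.lTensor S (LinearEquiv.ofBijective _ h)).bijective

omit [Module.Flat R S] in
/-- A map into a module on which `f` is invertible extends along an injection with `f`-power torsion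
cokernel. -/
theorem exists_extend (f : R) {A B T : Type u} [AddCommGroup A] [Module R A] [AddCommGroup B] [Module R B]
    [AddCommGroup T] [Module R T] (i : A →ₗ[R] B) (hi : Function.Injective i)
    (hcok : ∀ b : B, ∃ k : ℕ, f ^ k • b ∈ LinearMap.range i)
    (hT : ∀ x : Submonoid.powers f, IsUnit (algebraMap R (Module.End R T) x)) (g : A →ₗ[R] T) :
    ∃ h : B →ₗ[R] T, ∀ a, h (i a) = g a := by
  let L : LocalizedModule (Submonoid.powers f) A →ₗ[R] LocalizedModule (Submonoid.powers f) B :=
    IsLocalizedModule.map (Submonoid.powers f)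
      (LocalizedModule.mkLinearMap (Submonoid.powers f) A)
      (LocalizedModule.mkLinearMap (Submonoid.powers f) B) i
  have hLmk : ∀ (a : A) (s : Submonoid.powers f),
      L (LocalizedModule.mk a s) = LocalizedModule.mk (i a) s := by
    intro a s
    simp [L, IsLocalizedModule.map_LocalizedModules]
  have hL : Function.Bijective L := by
    refine ⟨IsLocalizedModule.map_injective (Submonoid.powers f) _ _ i hi, fun z => ?_⟩
    induction z using LocalizedModule.induction_on with
    | _ b s =>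
      obtain ⟨k, a, ha⟩ := hcok b
      let c : Submonoid.powers f := ⟨f ^ k, k, rfl⟩
      refine ⟨LocalizedModule.mk a (c * s), ?_⟩
      rw [hLmk, ha]
      exact LocalizedModule.mk_cancel_common_left c s b
  refine ⟨(LocalizedModule.lift (Submonoid.powers f) g hT).comp
    ((LinearEquiv.ofBijective L hL).symm.toLinearMap.comp
      (LocalizedModule.mkLinearMap (Submonoid.powers f) B)), fun a => ?_⟩
  have h1 : (LinearEquiv.ofBijective L hL).symm
      (LocalizedModule.mkLinearMap (Submonoid.powers f) B (i a)) =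
      LocalizedModule.mk a 1 := by
    rw [LinearEquiv.symm_apply_eq]
    exact (hLmk a 1).symm
  simp only [LinearMap.comp_apply, LinearEquiv.coe_toLinearMap]
  rw [h1]
  exact LinearMap.congr_fun (LocalizedModule.lift_comp (Submonoid.powers f) g hT) a

/-- Extensions of `S ⊗ M` by `S ⊗ N` come from extensions of `M` by `N` when `M` is `I`-power
torsion. -/
theorem exists_extension_lift {I : Ideal R} (hI : I.FG)
    (hq : Function.Bijective (Ideal.quotientMap (I.map (algebraMap R S)) (algebraMap R S) Ideal.le_comap_map))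
    (N M : Type u) [AddCommGroup N] [Module R N] [AddCommGroup M] [Module R M]
    (hM : ∀ m : M, ∃ n : ℕ, ∀ a ∈ I ^ n, a • m = 0)
    (E' : Type u) [AddCommGroup E'] [Module R E'] (i' : S ⊗[R] N →ₗ[R] E') (p' : E' →ₗ[R] S ⊗[R] M)
    (hi' : Function.Injective i') (hp' : Function.Surjective p') (hex' : LinearMap.range i' = LinearMap.ker p') :
    ∃ (E : Type u) (_ : AddCommGroup E) (_ : Module R E) (i : N →ₗ[R] E) (p : E →ₗ[R] M) (g : E →ₗ[R] E'),
      Function.Injective i ∧ Function.Surjective p ∧ LinearMap.range i = LinearMap.ker p ∧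
      (∀ n : N, g (i n) = i' ((1 : S) ⊗ₜ[R] n)) ∧ (∀ e : E, p' (g e) = (1 : S) ⊗ₜ[R] p e) := by
  classical
  obtain ⟨s, hs⟩ := id hI
  -- `S ⊗ M = M`
  have hMbij : Function.Bijective (TensorProduct.mk R S M 1) :=
    ⟨(injective_iff_map_eq_zero _).mpr fun m hm => by
      obtain ⟨n, hn⟩ := hM m
      exact Glue.eq_zero_of_pow_smul_eq_zero hq hn hm,
    Glue.surjective_one_tmul_of_pow_smul hq hM⟩
  let eM : M ≃ₗ[R] S ⊗[R] M := LinearEquiv.ofBijective (TensorProduct.mk R S M 1) hMbij
  have heM : ∀ y : S ⊗[R] M, (1 : S) ⊗ₜ[R] eM.symm y = y := fun y => eM.apply_symm_apply y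
  -- every element of `E'` is moved into `S ⊗ N` by a power of `I`
  have hE' : ∀ e : E', ∃ n : ℕ, ∀ a ∈ I ^ n, a • e ∈ LinearMap.range i' := by
    intro e
    obtain ⟨n, hn⟩ := hM (eM.symm (p' e))
    refine ⟨n, fun a ha => ?_⟩
    rw [hex', LinearMap.mem_ker, map_smul, ← heM (p' e), ← TensorProduct.tmul_smul, hn a ha,
      TensorProduct.tmul_zero]
  let P : Type u := ∀ f : ↥s, LocalizedModule (Submonoid.powers (f : R)) N
  let j0 : N →ₗ[R] P := LinearMap.pi fun f => LocalizedModule.mkLinearMap (Submonoid.powers (f : R)) N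
  -- the extension of `j0` to `E'`
  have hcomp : ∀ f : ↥s, ∃ h : E' →ₗ[R] S ⊗[R] LocalizedModule (Submonoid.powers (f : R)) N,
      ∀ z, h (i' z) = (LocalizedModule.mkLinearMap (Submonoid.powers (f : R)) N).lTensor S z := by
    intro f
    refine exists_extend (f : R) i' hi' (fun b => ?_) (isUnit_tensor_localized S (f : R)) _
    obtain ⟨n, hn⟩ := hE' b
    exact ⟨n, hn _ (Ideal.pow_mem_pow (hs ▸ Ideal.subset_span f.2) n)⟩
  choose h hh using hcomp
  let H : E' →ₗ[R] S ⊗[R] P :=
    (TensorProduct.piRight R R S (fun f : ↥s => LocalizedModule (Submonoid.powers (f : R)) N)).symm.toLinearMap.comp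
      (LinearMap.pi h)
  have hH : ∀ z, H (i' z) = j0.lTensor S z := by
    intro z
    show (TensorProduct.piRight R R S _).symm (LinearMap.pi h (i' z)) = _
    rw [LinearEquiv.symm_apply_eq]
    funext f
    rw [LinearMap.pi_apply, hh]
    induction z with
    | zero => simp
    | tmul c q =>
      simp [j0]
      rfl
    | add y z hy hz => simp only [map_add, Pi.add_apply, hy, hz]
  let Q : Type u := P ⧸ LinearMap.range j0
  let T : Submodule R Q := torsPow I Q
  let N' : Submodule R P := T.comap (LinearMap.range j0).mkQ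
  have hjN' : ∀ n, j0 n ∈ N' := fun n => by
    show (LinearMap.range j0).mkQ (j0 n) ∈ T
    rw [Submodule.mkQ_apply,
      (Submodule.Quotient.mk_eq_zero (LinearMap.range j0)).mpr (LinearMap.mem_range_self j0 n)]
    exact T.zero_mem
  let j : N →ₗ[R] N' := j0.codRestrict N' hjN'
  let q : N' →ₗ[R] T := ((LinearMap.range j0).mkQ.comp N'.subtype).codRestrict T fun v => v.2
  have hqsurj : Function.Surjective q := by
    rintro ⟨t, ht⟩
    obtain ⟨v, rfl⟩ := Submodule.mkQ_surjective _ t
    exact ⟨⟨v, ht⟩, rfl⟩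
  have hjq : Function.Exact j q := by
    intro v
    constructor
    · intro hv
      have : (LinearMap.range j0).mkQ (v : P) = 0 := congrArg Subtype.val hv
      rw [Submodule.mkQ_apply, Submodule.Quotient.mk_eq_zero] at this
      obtain ⟨n, hn⟩ := this
      exact ⟨n, Subtype.ext hn⟩
    · rintro ⟨n, rfl⟩
      refine Subtype.ext ?_
      show (LinearMap.range j0).mkQ (j0 n) = 0
      rw [Submodule.mkQ_apply, Submodule.Quotient.mk_eq_zero]
      exact ⟨n, rfl⟩
  have hkerj : ∀ k : LinearMap.ker j, ∃ n : ℕ, ∀ a ∈ I ^ n, a • k = 0 := by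
    intro k
    have h0 : j0 (k : N) = 0 := congrArg Subtype.val (LinearMap.mem_ker.mp k.2)
    have hk : (k : N) ∈ torsPow I N := mem_torsPow_of_gens hs fun f hf => by
      have := congrFun h0 ⟨f, hf⟩
      simp only [j0, LinearMap.pi_apply, Pi.zero_apply] at this
      obtain ⟨⟨c, m, rfl⟩, hc⟩ := (IsLocalizedModule.eq_zero_iff (Submonoid.powers f)
        (LocalizedModule.mkLinearMap (Submonoid.powers f) N)).mp this
      exact ⟨m, hc⟩
    obtain ⟨n, hn⟩ := hk
    exact ⟨n, fun a ha => Subtype.ext (hn a ha)⟩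
  have hinjN' : Function.Injective (N'.subtype.lTensor S) :=
    Module.Flat.lTensor_preserves_injective_linearMap _ N'.subtype_injective
  -- the extension lands in `S ⊗ N'`
  have hmem : ∀ e : E', H e ∈ LinearMap.range (N'.subtype.lTensor S) := by
    intro e
    obtain ⟨n, hn⟩ := hE' e
    obtain ⟨w, hw⟩ := exists_lTensor_torsPow S hI ((LinearMap.range j0).mkQ.lTensor S (H e)) (n := n)
      fun a ha => by
        obtain ⟨z, hz⟩ := hn a ha
        rw [← map_smul, ← map_smul, ← hz, hH, ← LinearMap.comp_apply, ← LinearMap.lTensor_comp,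
          (LinearMap.exact_map_mkQ_range j0).linearMap_comp_eq_zero, LinearMap.lTensor_zero,
          LinearMap.zero_apply]
    have hexact : Function.Exact N'.subtype (T.mkQ.comp (LinearMap.range j0).mkQ) := by
      rw [LinearMap.exact_iff, Submodule.range_subtype, LinearMap.ker_comp, Submodule.ker_mkQ]
    apply (Module.Flat.lTensor_exact S hexact (H e)).mp
    rw [LinearMap.lTensor_comp, LinearMap.comp_apply, ← hw, ← LinearMap.comp_apply,
      ← LinearMap.lTensor_comp, (LinearMap.exact_subtype_mkQ T).linearMap_comp_eq_zero,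
      LinearMap.lTensor_zero, LinearMap.zero_apply]
  let φ : E' →ₗ[R] S ⊗[R] N' :=
    (LinearEquiv.ofInjective _ hinjN').symm.toLinearMap.comp (H.codRestrict _ hmem)
  have hφ' : ∀ e, N'.subtype.lTensor S (φ e) = H e := fun e =>
    congrArg Subtype.val ((LinearEquiv.ofInjective _ hinjN').apply_symm_apply (H.codRestrict _ hmem e))
  have hφ : ∀ z, φ (i' z) = j.lTensor S z := fun z => hinjN' (by
    rw [hφ', hH, ← LinearMap.comp_apply (N'.subtype.lTensor S), ← LinearMap.lTensor_comp]
    rfl)
  let E : Submodule R (E' × N') :=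
    LinearMap.eqLocus (φ.comp (LinearMap.fst R E' N'))
      ((TensorProduct.mk R S N' 1).comp (LinearMap.snd R E' N'))
  let i : N →ₗ[R] E := ((i'.comp (TensorProduct.mk R S N 1)).prod j).codRestrict E fun n => by
    show φ (i' ((1 : S) ⊗ₜ[R] n)) = (1 : S) ⊗ₜ[R] j n
    rw [hφ, LinearMap.lTensor_tmul]
  let g : E →ₗ[R] E' := (LinearMap.fst R E' N').comp E.subtype
  let p : E →ₗ[R] M := eM.symm.toLinearMap.comp (p'.comp g)
  refine ⟨E, inferInstance, inferInstance, i, p, g, ?_, ?_, ?_, fun n => rfl, fun e => (heM _).symm⟩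
  · refine (injective_iff_map_eq_zero _).mpr fun n hn => ?_
    have h1 : i' ((1 : S) ⊗ₜ[R] n) = 0 := congrArg (fun e : E => (e : E' × N').1) hn
    have h2 : j n = 0 := congrArg (fun e : E => (e : E' × N').2) hn
    obtain ⟨k, hk⟩ := hkerj ⟨n, h2⟩
    exact Glue.eq_zero_of_pow_smul_eq_zero hq (fun a ha => congrArg Subtype.val (hk a ha))
      ((injective_iff_map_eq_zero i').mp hi' _ h1)
  · intro m
    obtain ⟨x, hx⟩ := hp' ((1 : S) ⊗ₜ[R] m)
    obtain ⟨t, ht⟩ := Glue.surjective_one_tmul_of_pow_smul (M := T) hq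
      (fun t => by obtain ⟨n, hn⟩ := t.2; exact ⟨n, fun a ha => Subtype.ext (hn a ha)⟩) (q.lTensor S (φ x))
    obtain ⟨v, rfl⟩ := hqsurj t
    obtain ⟨z, hz⟩ := (lTensor_exact S hjq hqsurj (φ x - (1 : S) ⊗ₜ[R] v)).mp (by
      rw [map_sub, LinearMap.lTensor_tmul, ← ht]; exact sub_self _)
    refine ⟨⟨(x - i' z, v), ?_⟩, ?_⟩
    · show φ (x - i' z) = (1 : S) ⊗ₜ[R] v
      rw [map_sub, hφ, hz, sub_sub_cancel]
    · show eM.symm (p' (x - i' z)) = m
      have h0 : p' (i' z) = 0 := LinearMap.mem_ker.mp (hex' ▸ LinearMap.mem_range_self i' z)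
      rw [map_sub, h0, sub_zero, hx, LinearEquiv.symm_apply_eq]
      rfl
  · refine le_antisymm ?_ ?_
    · rintro _ ⟨n, rfl⟩
      show eM.symm (p' (i' ((1 : S) ⊗ₜ[R] n))) = 0
      have h0 : p' (i' ((1 : S) ⊗ₜ[R] n)) = 0 :=
        LinearMap.mem_ker.mp (hex' ▸ LinearMap.mem_range_self i' _)
      rw [h0, map_zero]
    · rintro ⟨⟨x, v⟩, hxv⟩ he
      have he' : p' x = 0 := by
        have : eM.symm (p' x) = 0 := he
        rw [← heM (p' x), this, TensorProduct.tmul_zero]
      obtain ⟨z, rfl⟩ : x ∈ LinearMap.range i' := hex' ▸ LinearMap.mem_ker.mpr he'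
      have hxv' : j.lTensor S z = (1 : S) ⊗ₜ[R] v := (hφ z).symm.trans hxv
      have hqv : q v = 0 := by
        obtain ⟨n, hn⟩ := (q v).2
        refine Glue.eq_zero_of_pow_smul_eq_zero hq (fun a ha => Subtype.ext (hn a ha)) ?_
        rw [← LinearMap.lTensor_tmul, ← hxv', ← LinearMap.comp_apply, ← LinearMap.lTensor_comp,
          hjq.linearMap_comp_eq_zero, LinearMap.lTensor_zero, LinearMap.zero_apply]
      obtain ⟨n0, hn0⟩ := (hjq v).mp hqv
      obtain ⟨w, hw⟩ := (Module.Flat.lTensor_exact S (LinearMap.exact_subtype_ker_map j)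
        (z - (1 : S) ⊗ₜ[R] n0)).mp (by rw [map_sub, hxv', LinearMap.lTensor_tmul, hn0, sub_self])
      obtain ⟨k, rfl⟩ := Glue.surjective_one_tmul_of_pow_smul (M := LinearMap.ker j) hq hkerj w
      rw [TensorProduct.mk_apply, LinearMap.lTensor_tmul, eq_sub_iff_add_eq] at hw
      refine ⟨(k : N) + n0, Subtype.ext (Prod.ext ?_ ?_)⟩
      · show i' ((1 : S) ⊗ₜ[R] ((k : N) + n0)) = i' z
        rw [TensorProduct.tmul_add]
        exact congrArg i' hw
      · show j ((k : N) + n0) = v
        rw [map_add, LinearMap.mem_ker.mp k.2, zero_add, hn0]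

end Groth.Agent.GlueExt4
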